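import Cfsg.Agent.Cod.Gen

/-! A Sylow 2-subgroup of the alternating group of degree nine. -/

set_option autoImplicit false
set_option maxRecDepth 1000000
set_option maxHeartbeats 0
set_option Elab.async false

namespace CF.StA

open CF.Comp CF.Cod

noncomputable def RNn : List (List Nat) := [[(nat_lit 1), (nat_lit 1)],
  [(nat_lit 3), (nat_lit 3)],
  [(nat_lit 5), (nat_lit 5)],
  [(nat_lit 3), (nat_lit 5), (nat_lit 3), (nat_lit 5)],
  [(nat_lit 1), (nat_lit 3), (nat_lit 1), (nat_lit 3), (nat_lit 1), (nat_lit 3), (nat_lit 1), (nat_lit 3)],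
  [(nat_lit 1), (nat_lit 5), (nat_lit 1), (nat_lit 5), (nat_lit 1), (nat_lit 5), (nat_lit 1), (nat_lit 5)],
  [(nat_lit 1), (nat_lit 5), (nat_lit 1), (nat_lit 3), (nat_lit 1), (nat_lit 3), (nat_lit 5), (nat_lit 1), (nat_lit 5), (nat_lit 1), (nat_lit 3), (nat_lit 1), (nat_lit 3), (nat_lit 5)]]
noncomputable def TNn_c0 : BT (Bx Nat) := (BT.leaf (Bx.mk (nat_lit 0xffef76efae78dfcbb4ceac70af5b69bf2b1f9e67218de91da228256526d65185574da45034a3cc2ce2451c42060c2040)))
noncomputable def TNn_c1 : BT (Bx Nat) := (BT.leaf (Bx.mk (nat_lit 0xf76ff0bb4ceac7e9fae63dfc87b99e7f871bd6d619c96bd4aec4a9a0f92536242029d3156875d11531033822c9206001)))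
noncomputable def TNn_c2 : BT (Bx Nat) := (BT.leaf (Bx.mk (nat_lit 0xf76ff0bb4ceac7e9fae63dfc87b99e7f871bd6d619c96bd4aec4a9a0f92536242029d3156875d11531033822c9206001)))
noncomputable def TNn_c3 : BT (Bx Nat) := (BT.leaf (Bx.mk (nat_lit 0xef8d72feeafebe9f6793ca22dfa7e0e5ddb1d196b35f056cb53a9242598e8cd84b79c25b21858650544f0cc2811c0102)))
noncomputable def TNn_c4 : BT (Bx Nat) := (BT.leaf (Bx.mk (nat_lit 0xef8d72feeafebe9f6793ca22dfa7e0e5ddb1d196b35f056cb53a9242598e8cd84b79c25b21858650544f0cc2811c0102)))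
noncomputable def TNn_c5 : BT (Bx Nat) := (BT.leaf (Bx.mk (nat_lit 0xe3bcb5facabfa6ff258fd8a8da07ba779df0698d17cf152e4edad13e73a690c2e17c97086d919654449008d04a007143)))
noncomputable def TNn_c6 : BT (Bx Nat) := (BT.leaf (Bx.mk (nat_lit 0xe3bcb5facabfa6ff258fd8a8da07ba779df0698d17cf152e4edad13e73a690c2e17c97086d919654449008d04a007143)))
noncomputable def TNn_w : BT (Bx Nat) := (BT.leaf (Bx.mk (nat_lit 0x51315131131531310513151301315313015131510513153105315131013151310515313103153131001513150051315300531513001315130051531300315313001531510051315100531531001315310051513100315131001531310001531500051315000531530001315300051513000315130001531300053151000131510005153100031531000151310005313100005315000013150000515300003153000015130000531300005151000031510000153100005131000031310000051500000315000001530000051300000313000001510000053100000131000000150000005300000013000000510000003100000005000000030000000100000000)))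
noncomputable def TNn_cols : List (BT (Bx Nat)) := [TNn_c0, TNn_c1, TNn_c2, TNn_c3, TNn_c4, TNn_c5, TNn_c6]
noncomputable def TNn_ch (x j : Nat) : Bx Nat := chk TNn_cols x j
noncomputable def TNn_wc (_ j : Nat) : Bx Nat := TNn_w.get j
noncomputable def TNn : CT := ⟨(nat_lit 64), (nat_lit 6), (nat_lit 63), TNn_ch, (nat_lit 32), (nat_lit 4294967295), TNn_wc, (nat_lit 126)⟩
theorem TNn_ok : TNn.ok = true := by decide +kernel
theorem TNn_rel : lall TNn.relOK RNn = true := by decide +kernel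
noncomputable def eNn_c0 : BT (Bx Nat) := (BT.leaf (Bx.mk (nat_lit 0x0)))
noncomputable def eNn_c1 : BT (Bx Nat) := (BT.leaf (Bx.mk (nat_lit 0x423e923754c09231922f65b566b4922b6232a0bf9228523b523a922474b8a0bd9222a0bc4227921f84a0a0b9921d921ca0b654ae9219849aa0b39217a0b09215722ca0ad9213a0aaa0a992107225a0a6920ea0a38491a0a1920ba09e840d7216a09b9208a09872129206a09492059204a08f9203a08ca08aa089a0879201a0820000)))
noncomputable def eNn_c2 : BT (Bx Nat) := (BT.leaf (Bx.mk (nat_lit 0x23bc62b912b662b312c063af83ac753f42b092aa23be63a883a5753d562992a3573852bb83a062a172ba929ea0b742b252b5839a629b72b49298a0b18396752d72ae9294a0ab83938391752672a7928fa0a4838e72a2928ca09f729d928a729c9289a09972979287a0958386a092a0908384a08d728b928272889281a085a0830000)))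
noncomputable def eNn_c3 : BT (Bx Nat) := (BT.leaf (Bx.mk (nat_lit 0x9339233c93333836383f932d932ba0c0932a47b0233d93269324a0be9323332933379321931fa0bb931ea0baa0b847b1931b9319a0b59318a0b4a0b29315a0af9314a0aea0ac93129310a0a8930fa0a7a0a5930d930ca0a2a0a0930aa09d9309a09ca09a9307a097a0969305a093a0919303a08e9302a08b9301a088a086a0840000)))
noncomputable def eNn_p : BT (Bx Nat) := (BT.leaf (Bx.mk (nat_lit 0x10e4386e0bb30dd882ebc175a1bab0dd582ea837541328059306c9036480b230d9184c8816421b1f0d8f82c78363c131d054e02a6c35321a99054c06a60252e0a950d4a82a503528129305490684034200a0f0d0784838141a1a0c0d060482c14141a0a08c486624231009870cc384618130a198504820240c320609020c8104204310210810400000000)))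
noncomputable def eNn_e : BT Nat := BT.leaf (nat_lit 0)
noncomputable def eNn_cols : List (BT (Bx Nat)) := [eNn_c0, eNn_c1, eNn_c2, eNn_c3]
noncomputable def eNn_ch (x j : Nat) : Bx Nat := chunkG eNn_cols (nat_lit 1) x j
noncomputable def eNn_L (x : Nat) : Bx (Nat → Nat) := lookG eNn_ch (nat_lit 8) (nat_lit 255) (nat_lit 16) (nat_lit 65535) x
noncomputable def eNn_pc (_ j : Nat) : Bx Nat := eNn_p.get j
noncomputable def eNn_pb : Bx (Nat → Nat) := lookG eNn_pc (nat_lit 8) (nat_lit 255) (nat_lit 17) (nat_lit 131071) (nat_lit 0)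
noncomputable def eNn_rots : BT CW := (BT.node (nat_lit 8) (BT.node (nat_lit 4) (BT.node (nat_lit 2) (BT.node (nat_lit 1) (BT.leaf ⟨[], (nat_lit 1000000), (nat_lit 0), (nat_lit 0), (nat_lit 0)⟩) (BT.leaf ⟨[], (nat_lit 1000000), (nat_lit 0), (nat_lit 0), (nat_lit 1)⟩)) (BT.node (nat_lit 3) (BT.leaf ⟨[], (nat_lit 1000000), (nat_lit 0), (nat_lit 0), (nat_lit 2)⟩) (BT.leaf ⟨[(nat_lit 1), (nat_lit 1)], (nat_lit 0), (nat_lit 0), (nat_lit 0), (nat_lit 3)⟩))) (BT.node (nat_lit 6) (BT.node (nat_lit 5) (BT.leaf ⟨[(nat_lit 2), (nat_lit 2)], (nat_lit 1), (nat_lit 0), (nat_lit 0), (nat_lit 3)⟩) (BT.leaf ⟨[(nat_lit 3), (nat_lit 3)], (nat_lit 2), (nat_lit 0), (nat_lit 0), (nat_lit 3)⟩)) (BT.node (nat_lit 7) (BT.leaf ⟨[(nat_lit 2), (nat_lit 3), (nat_lit 2), (nat_lit 3)], (nat_lit 3), (nat_lit 0), (nat_lit 0), (nat_lit 3)⟩) (BT.leaf ⟨[(nat_lit 1), (nat_lit 2), (nat_lit 1), (nat_lit 2), (nat_lit 1), (nat_lit 2), (nat_lit 1), (nat_lit 2)],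 (nat_lit 4), (nat_lit 0), (nat_lit 0), (nat_lit 3)⟩)))) (BT.node (nat_lit 12) (BT.node (nat_lit 10) (BT.node (nat_lit 9) (BT.leaf ⟨[(nat_lit 1), (nat_lit 3), (nat_lit 1), (nat_lit 3), (nat_lit 1), (nat_lit 3), (nat_lit 1), (nat_lit 3)], (nat_lit 5), (nat_lit 0), (nat_lit 0), (nat_lit 3)⟩) (BT.leaf ⟨[(nat_lit 2), (nat_lit 1), (nat_lit 2), (nat_lit 1), (nat_lit 2), (nat_lit 1), (nat_lit 2), (nat_lit 1)], (nat_lit 4), (nat_lit 1), (nat_lit 0), (nat_lit 3)⟩)) (BT.node (nat_lit 11) (BT.leaf ⟨[(nat_lit 1), (nat_lit 3), (nat_lit 1), (nat_lit 2), (nat_lit 1), (nat_lit 2), (nat_lit 3), (nat_lit 1), (nat_lit 3), (nat_lit 1), (nat_lit 2), (nat_lit 1), (nat_lit 2), (nat_lit 3)], (nat_lit 6), (nat_lit 0), (nat_lit 0), (nat_lit 3)⟩) (BT.leaf ⟨[(nat_lit 2), (nat_lit 1), (nat_lit 2), (nat_lit 3), (nat_lit 1), (nat_lit 3), (nat_lit 1), (nat_lit 2), (nat_lit 1), (nat_lit 2), (nat_lit 3), (nat_lit 1), (nat_lit 3), (nat_lit 1)], (nat_lit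 6), (nat_lit 3), (nat_lit 0), (nat_lit 3)⟩))) (BT.node (nat_lit 14) (BT.node (nat_lit 13) (BT.leaf ⟨[(nat_lit 1), (nat_lit 2), (nat_lit 3), (nat_lit 1), (nat_lit 3), (nat_lit 1), (nat_lit 2), (nat_lit 1), (nat_lit 2), (nat_lit 3), (nat_lit 1), (nat_lit 3), (nat_lit 1), (nat_lit 2)], (nat_lit 6), (nat_lit 4), (nat_lit 0), (nat_lit 3)⟩) (BT.leaf ⟨[(nat_lit 2), (nat_lit 1), (nat_lit 3), (nat_lit 1), (nat_lit 3), (nat_lit 2), (nat_lit 1), (nat_lit 2), (nat_lit 1), (nat_lit 3), (nat_lit 1), (nat_lit 3), (nat_lit 2), (nat_lit 1)], (nat_lit 16), (nat_lit 3), (nat_lit 0), (nat_lit 3)⟩)) (BT.node (nat_lit 15) (BT.leaf ⟨[(nat_lit 3), (nat_lit 2), (nat_lit 3), (nat_lit 2)], (nat_lit 3), (nat_lit 1), (nat_lit 0), (nat_lit 3)⟩) (BT.leaf ⟨[(nat_lit 3), (nat_lit 1), (nat_lit 3), (nat_lit 1), (nat_lit 3), (nat_lit 1), (nat_lit 3), (nat_lit 1)], (nat_lit 5), (nat_lit 1), (nat_lit 0), (nat_lit 3)⟩)))))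
noncomputable def eNn_hcs : List CW := []
noncomputable def eNn_H (x j : Nat) : Bx (Nat → Nat → Nat) := mkH eNn_L eNn_pb.1 eNn_e.get (lmap CW.w eNn_hcs) (nat_lit 64) (nat_lit 65) (nat_lit 4) (nat_lit 128) (nat_lit 4096) (nat_lit 8191) x (eNn_rots.get j)
noncomputable def eNn_F (x b : Nat) : Bool := blkOK eNn_H eNn_ch (nat_lit 65) (nat_lit 128) (nat_lit 32) (nat_lit 8) (nat_lit 255) (nat_lit 16) (nat_lit 65535) x b

theorem eNn_k0_0 : allFrom (eNn_F (nat_lit 0)) (nat_lit 0) (nat_lit 4) = true := by decide +kernel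
theorem eNn_k1_0 : allFrom (eNn_F (nat_lit 1)) (nat_lit 0) (nat_lit 4) = true := by decide +kernel
theorem eNn_k2_0 : allFrom (eNn_F (nat_lit 2)) (nat_lit 0) (nat_lit 4) = true := by decide +kernel
theorem eNn_k3_0 : allFrom (eNn_F (nat_lit 3)) (nat_lit 0) (nat_lit 4) = true := by decide +kernel

theorem eNn_all : Cov eNn_F 4 4 0 := by
  have h := Cov.zero eNn_F 4
  have h := h.blk (b := 4) eNn_k0_0 rfl
  have h := h.next (y := 1) rfl rfl
  have h := h.blk (b := 4) eNn_k1_0 rfl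
  have h := h.next (y := 2) rfl rfl
  have h := h.blk (b := 4) eNn_k2_0 rfl
  have h := h.next (y := 3) rfl rfl
  have h := h.blk (b := 4) eNn_k3_0 rfl
  have h := h.next (y := 4) rfl rfl
  exact h

theorem eNn : Enum RNn [] (gensW 3) 64 :=
  ⟨eNn_cols, eNn_ch, eNn_L, eNn_H, eNn_pb.1, eNn_e.get, [(nat_lit 0), (nat_lit 1), (nat_lit 3), (nat_lit 5)], (nat_lit 7), (nat_lit 3), eNn_rots, eNn_hcs,
    (nat_lit 65), (nat_lit 4), (nat_lit 128), (nat_lit 32), (nat_lit 4096), (nat_lit 8191), (nat_lit 8), (nat_lit 255), (nat_lit 16), (nat_lit 65535), (nat_lit 1), (nat_lit 4),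
    fun _ _ => rfl, fun _ => rfl, fun _ _ => rfl, by decide +kernel, eNn_all.1⟩

theorem pNn : TNn.Pres RNn (gensW 3) := ⟨CT.ok_spec TNn_ok, lall_iff.1 TNn_rel, by decide +kernel,
  by decide +kernel, by decide +kernel, eNn.bound (ug_rels _) (bound_nil _)⟩

instance instTNn : TNn.Grp := pNn.grp

end CF.StA
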