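import Cfsg.Agent.Cod.Gen

/-! A Sylow 2-subgroup of the Mathieu group of degree twelve. -/

set_option autoImplicit false
set_option maxRecDepth 1000000
set_option maxHeartbeats 0
set_option Elab.async false

namespace CF.StA

open CF.Comp CF.Cod

noncomputable def RMw : List (List Nat) := [[(nat_lit 1), (nat_lit 1), (nat_lit 1), (nat_lit 1)],
  [(nat_lit 3), (nat_lit 3), (nat_lit 3), (nat_lit 3)],
  [(nat_lit 1), (nat_lit 3), (nat_lit 2), (nat_lit 4)],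
  [(nat_lit 5), (nat_lit 5)],
  [(nat_lit 7), (nat_lit 7)],
  [(nat_lit 5), (nat_lit 7), (nat_lit 5), (nat_lit 7)],
  [(nat_lit 5), (nat_lit 1), (nat_lit 5), (nat_lit 1)],
  [(nat_lit 5), (nat_lit 3), (nat_lit 5), (nat_lit 3)],
  [(nat_lit 7), (nat_lit 1), (nat_lit 7), (nat_lit 2)],
  [(nat_lit 7), (nat_lit 3), (nat_lit 7), (nat_lit 1), (nat_lit 3)]]
noncomputable def TMw_c0 : BT (Bx Nat) := (BT.leaf (Bx.mk (nat_lit 0xffbf3dfb9eb8db7d74cf2c69aacb6eaefc287e69618dc9209de7626da6194945564d74502ce2093ca30d1c6143101080)))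
noncomputable def TMw_c1 : BT (Bx Nat) := (BT.leaf (Bx.mk (nat_lit 0xd7cfbbf76dffbaca2079d8adeaaa6fc39af85b4cd2c909159d34713ca34c85499f9578dc19a1036c565808b3892001c1)))
noncomputable def TMw_c2 : BT (Bx Nat) := (BT.leaf (Bx.mk (nat_lit 0xe3defef2faa8e7afe696372bb37c36a6eb757d54e14715f4533c902ce2484a78167a47626c565819a10304f28d307002)))
noncomputable def TMw_c3 : BT (Bx Nat) := (BT.leaf (Bx.mk (nat_lit 0xcafb3ada6ee3f74779fda65757e8604bc911aeae1b38d2f7a752897f31f11b0bada0f1449e50a251e05c6164c040c203)))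
noncomputable def TMw_c4 : BT (Bx Nat) := (BT.leaf (Bx.mk (nat_lit 0xceedeae7cd2583b7b66bf616f9553d9e67d33fa3a9e0cb6c6cad48932c47c06bcb16ba034a388285d70165745000d244)))
noncomputable def TMw_c5 : BT (Bx Nat) := (BT.leaf (Bx.mk (nat_lit 0xc70b6ba6792285f71b658ffe597f54f12ed0e8f379338dcbd89235d07cf2baf1ac12a0e898296380179d69501344e285)))
noncomputable def TMw_c6 : BT (Bx Nat) := (BT.leaf (Bx.mk (nat_lit 0xc70b6ba6792285f71b658ffe597f54f12ed0e8f379338dcbd89235d07cf2baf1ac12a0e898296380179d69501344e285)))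
noncomputable def TMw_c7 : BT (Bx Nat) := (BT.leaf (Bx.mk (nat_lit 0xfbfe35a338fdc9ef1aeb7c3195d89371143b64ebcce6d60a276bab1f49e120d144b03aa90a65a40607d76c055448f2c6)))
noncomputable def TMw_c8 : BT (Bx Nat) := (BT.leaf (Bx.mk (nat_lit 0xfbfe35a338fdc9ef1aeb7c3195d89371143b64ebcce6d60a276bab1f49e120d144b03aa90a65a40607d76c055448f2c6)))
noncomputable def TMw_w : BT (Bx Nat) := (BT.leaf (Bx.mk (nat_lit 0x53311033750475403753075330475207532053320375107541053310751105411053110331100337004750037500374007540047300753007330053300372007520054200732005320033200471007510074100541005310033100711005110041100311000470003700075000740005400073000530003300072000520004200032000710005100041000310001100007000050000400003000020000100000)))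
noncomputable def TMw_cols : List (BT (Bx Nat)) := [TMw_c0, TMw_c1, TMw_c2, TMw_c3, TMw_c4, TMw_c5, TMw_c6, TMw_c7, TMw_c8]
noncomputable def TMw_ch (x j : Nat) : Bx Nat := chk TMw_cols x j
noncomputable def TMw_wc (_ j : Nat) : Bx Nat := TMw_w.get j
noncomputable def TMw : CT := ⟨(nat_lit 64), (nat_lit 6), (nat_lit 63), TMw_ch, (nat_lit 20), (nat_lit 1048575), TMw_wc, (nat_lit 510)⟩
theorem TMw_ok : TMw.ok = true := by decide +kernel
theorem TMw_rel : lall TMw.relOK RMw = true := by decide +kernel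
noncomputable def eMw_c0 : BT (Bx Nat) := (BT.leaf (Bx.mk (nat_lit 0x0)))
noncomputable def eMw_c1 : BT (Bx Nat) := (BT.leaf (Bx.mk (nat_lit 0xc2b6641ea0afe0d7866be449ba0ae14d80c2af6156b0aa60543029f814f30a8d455ce7bb6155a14a99260e7b1749d54ab1cd730297749ab9ad20526e6b38148b0a96052cc528814a40a4a50650290a345c0a3a051b27a2748aca49e524126a6714c49a92503b4907934dd1e169009229ca34348a6a45334503914648a3e45152289b140e022301040000)))
noncomputable def eMw_c2 : BT (Bx Nat) := (BT.leaf (Bx.mk (nat_lit 0x8239531f108f1447ee23d6118308ad8452af3a311dba301844ec2266112408758458a22d72dc316c5ce6f222a7397988b9d16ca220810b40851ce45021272d9408624e6b0215945a4a2ce0423470c8107d182a8b13071392d449c85842f289f9392ca27a4b47271ca4434986a4b334707910dd18168b09620291084882e441d220d91045880701060000)))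
noncomputable def eMw_c3 : BT (Bx Nat) := (BT.leaf (Bx.mk (nat_lit 0x14a33a4d858eb553766a37b1d3c28f29448c3be651ad2878c7752a40a50dd266a93316396c05fb8e89c7436393c05eccc969424ceac67d5ca8e547394a0fa4c758e3301708eaa951b5282e9314efa091da58e2301656387c058e02bf015d2a2977485281a930b80a891d358e0f0147039591cfd8e0b013b8099c04bc8e52c7038091c046e022701080000)))
noncomputable def eMw_c4 : BT (Bx Nat) := (BT.leaf (Bx.mk (nat_lit 0x10334b197baae2c656e33a419ea42d6064d6321219e40c7d466f4a9b91a058c66c62f233fb18b58c57017ca328519398c8206296310c05dd2a3e06552339b186c48ba155ac31ca545c8cdac612d0259199c8ccac6112331b183e02c263194a86c05648ca6c608c313919248c8ec60780a2918f48c76c605809ac04c48c4a46236301c0476022b010a0000)))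
noncomputable def eMw_c5 : BT (Bx Nat) := (BT.leaf (Bx.mk (nat_lit 0x164326218c10ba08594b2a821452c96c8470422a590590769639641ab20ce0301d77f0417820c4aefa962b2c3da589c90f2c8232bbba5885903a4875640dc05ccb0e296192437b20559027016d2435b204602d301672c2f95d852c1e485b64059215d901301532427b201e029b01492421b2016027f013d809b920b5900701298092c047e022f010c0000)))
noncomputable def eMw_c6 : BT (Bx Nat) := (BT.leaf (Bx.mk (nat_lit 0x64bf4720136e5496d64a9425a59290497c84b3b24fb38f6c936adbb571c2b6c50964ed26868f1128ec928ed9db249592470178ee1ab247b12c2c91b80ba371743666c917648ac05bb92bd89596488c05ab12a1c945248972475921ac90b80adb242602af01556483c053c445f014b6482c050e02829931809cb240e025b012b8093c04860233010e0000)))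
noncomputable def eMw_p : BT (Bx Nat) := (BT.leaf (Bx.mk (nat_lit 0xac858bc38b448ac38a4689c4890688c5884387c6874586c686858645864365c3658465836543650664c4648664466445640363c66385634663456343630462c66286628562456243620662056204620341c441c341864146414541064105410340c640c540c440c34086408540844083408120462045204420432042204100000000)))
noncomputable def eMw_e : BT Nat := BT.leaf (nat_lit 0)
noncomputable def eMw_cols : List (BT (Bx Nat)) := [eMw_c0, eMw_c1, eMw_c2, eMw_c3, eMw_c4, eMw_c5, eMw_c6]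
noncomputable def eMw_ch (x j : Nat) : Bx Nat := chunkG eMw_cols (nat_lit 1) x j
noncomputable def eMw_L (x : Nat) : Bx (Nat → Nat) := lookG eMw_ch (nat_lit 8) (nat_lit 255) (nat_lit 17) (nat_lit 131071) x
noncomputable def eMw_pc (_ j : Nat) : Bx Nat := eMw_p.get j
noncomputable def eMw_pb : Bx (Nat → Nat) := lookG eMw_pc (nat_lit 8) (nat_lit 255) (nat_lit 16) (nat_lit 65535) (nat_lit 0)
noncomputable def eMw_rots : BT CW := (BT.node (nat_lit 19) (BT.node (nat_lit 9) (BT.node (nat_lit 4) (BT.node (nat_lit 2) (BT.node (nat_lit 1) (BT.leaf ⟨[], (nat_lit 1000000), (nat_lit 0), (nat_lit 0), (nat_lit 0)⟩) (BT.leaf ⟨[], (nat_lit 1000000), (nat_lit 0), (nat_lit 0), (nat_lit 1)⟩)) (BT.node (nat_lit 3) (BT.leaf ⟨[], (nat_lit 1000000), (nat_lit 0), (nat_lit 0), (nat_lit 2)⟩) (BT.leaf ⟨[(nat_lit 2), (nat_lit 1)], (nat_lit 13), (nat_lit 1), (nat_lit 0), (nat_lit 3)⟩))) (BT.node (nat_lit 6) (BT.node (nat_lit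 5) (BT.leaf ⟨[(nat_lit 1), (nat_lit 2)], (nat_lit 13), (nat_lit 0), (nat_lit 0), (nat_lit 3)⟩) (BT.leaf ⟨[(nat_lit 4), (nat_lit 3)], (nat_lit 12), (nat_lit 1), (nat_lit 0), (nat_lit 3)⟩)) (BT.node (nat_lit 7) (BT.leaf ⟨[(nat_lit 3), (nat_lit 4)], (nat_lit 12), (nat_lit 0), (nat_lit 0), (nat_lit 3)⟩) (BT.node (nat_lit 8) (BT.leaf ⟨[(nat_lit 5), (nat_lit 5)], (nat_lit 3), (nat_lit 0), (nat_lit 0), (nat_lit 3)⟩) (BT.leaf ⟨[(nat_lit 6), (nat_lit 6)], (nat_lit 4), (nat_lit 0), (nat_lit 0), (nat_lit 3)⟩))))) (BT.node (nat_lit 14) (BT.node (nat_lit 11) (BT.node (nat_lit 10) (BT.leaf ⟨[(nat_lit 1), (nat_lit 1), (nat_lit 1), (nat_lit 1)], (nat_lit 0), (nat_lit 0), (nat_lit 0), (nat_lit 3)⟩) (BT.leaf ⟨[(nat_lit 2), (nat_lit 4), (nat_lit 1), (nat_lit 3)], (nat_lit 2), (nat_lit 2), (nat_lit 0), (nat_lit 3)⟩)) (BT.node (nat_lit 12) (BT.leaf ⟨[(nat_lit 2), (nat_lit 3), (nat_lit 1), (nat_lit 4)], (nat_lit 16),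 (nat_lit 3), (nat_lit 0), (nat_lit 3)⟩) (BT.node (nat_lit 13) (BT.leaf ⟨[(nat_lit 1), (nat_lit 5), (nat_lit 1), (nat_lit 5)], (nat_lit 6), (nat_lit 1), (nat_lit 0), (nat_lit 3)⟩) (BT.leaf ⟨[(nat_lit 2), (nat_lit 6), (nat_lit 1), (nat_lit 6)], (nat_lit 8), (nat_lit 3), (nat_lit 0), (nat_lit 3)⟩)))) (BT.node (nat_lit 16) (BT.node (nat_lit 15) (BT.leaf ⟨[(nat_lit 1), (nat_lit 3), (nat_lit 2), (nat_lit 4)], (nat_lit 2), (nat_lit 0), (nat_lit 0), (nat_lit 3)⟩) (BT.leaf ⟨[(nat_lit 1), (nat_lit 4), (nat_lit 2), (nat_lit 3)], (nat_lit 16), (nat_lit 1), (nat_lit 0), (nat_lit 3)⟩)) (BT.node (nat_lit 17) (BT.leaf ⟨[(nat_lit 2), (nat_lit 5), (nat_lit 2), (nat_lit 5)], (nat_lit 20), (nat_lit 0), (nat_lit 0), (nat_lit 3)⟩) (BT.node (nat_lit 18) (BT.leaf ⟨[(nat_lit 1), (nat_lit 6), (nat_lit 2), (nat_lit 6)], (nat_lit 8), (nat_lit 1), (nat_lit 0), (nat_lit 3)⟩) (BT.leaf ⟨[(nat_lit 3), (nat_lit 3), (nat_lit 3), (nat_lit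 3)], (nat_lit 1), (nat_lit 0), (nat_lit 0), (nat_lit 3)⟩)))))) (BT.node (nat_lit 28) (BT.node (nat_lit 23) (BT.node (nat_lit 21) (BT.node (nat_lit 20) (BT.leaf ⟨[(nat_lit 3), (nat_lit 5), (nat_lit 3), (nat_lit 5)], (nat_lit 7), (nat_lit 1), (nat_lit 0), (nat_lit 3)⟩) (BT.leaf ⟨[(nat_lit 4), (nat_lit 5), (nat_lit 4), (nat_lit 5)], (nat_lit 21), (nat_lit 0), (nat_lit 0), (nat_lit 3)⟩)) (BT.node (nat_lit 22) (BT.leaf ⟨[(nat_lit 5), (nat_lit 6), (nat_lit 5), (nat_lit 6)], (nat_lit 5), (nat_lit 0), (nat_lit 0), (nat_lit 3)⟩) (BT.leaf ⟨[(nat_lit 5), (nat_lit 3), (nat_lit 5), (nat_lit 3)], (nat_lit 7), (nat_lit 0), (nat_lit 0), (nat_lit 3)⟩))) (BT.node (nat_lit 25) (BT.node (nat_lit 24) (BT.leaf ⟨[(nat_lit 5), (nat_lit 4), (nat_lit 5), (nat_lit 4)], (nat_lit 21), (nat_lit 1), (nat_lit 0), (nat_lit 3)⟩) (BT.leaf ⟨[(nat_lit 6), (nat_lit 3), (nat_lit 6), (nat_lit 1), (nat_lit 3)], (nat_lit 9), (nat_lit 0),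 (nat_lit 0), (nat_lit 3)⟩)) (BT.node (nat_lit 26) (BT.leaf ⟨[(nat_lit 6), (nat_lit 5), (nat_lit 6), (nat_lit 5)], (nat_lit 5), (nat_lit 1), (nat_lit 0), (nat_lit 3)⟩) (BT.node (nat_lit 27) (BT.leaf ⟨[(nat_lit 6), (nat_lit 2), (nat_lit 6), (nat_lit 1)], (nat_lit 8), (nat_lit 2), (nat_lit 0), (nat_lit 3)⟩) (BT.leaf ⟨[(nat_lit 6), (nat_lit 1), (nat_lit 6), (nat_lit 2)], (nat_lit 8), (nat_lit 0), (nat_lit 0), (nat_lit 3)⟩))))) (BT.node (nat_lit 33) (BT.node (nat_lit 30) (BT.node (nat_lit 29) (BT.leaf ⟨[(nat_lit 3), (nat_lit 1), (nat_lit 4), (nat_lit 2)], (nat_lit 16), (nat_lit 0), (nat_lit 0), (nat_lit 3)⟩) (BT.leaf ⟨[(nat_lit 2), (nat_lit 2), (nat_lit 2), (nat_lit 2)], (nat_lit 14), (nat_lit 0), (nat_lit 0), (nat_lit 3)⟩)) (BT.node (nat_lit 31) (BT.leaf ⟨[(nat_lit 3), (nat_lit 2), (nat_lit 4), (nat_lit 1)], (nat_lit 2), (nat_lit 1), (nat_lit 0), (nat_lit 3)⟩) (BT.node (nat_lit 32) (BT.leaf ⟨[(nat_lit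 4), (nat_lit 2), (nat_lit 3), (nat_lit 1)], (nat_lit 16), (nat_lit 2), (nat_lit 0), (nat_lit 3)⟩) (BT.leaf ⟨[(nat_lit 4), (nat_lit 1), (nat_lit 3), (nat_lit 2)], (nat_lit 2), (nat_lit 3), (nat_lit 0), (nat_lit 3)⟩)))) (BT.node (nat_lit 35) (BT.node (nat_lit 34) (BT.leaf ⟨[(nat_lit 6), (nat_lit 4), (nat_lit 6), (nat_lit 4), (nat_lit 2)], (nat_lit 23), (nat_lit 2), (nat_lit 0), (nat_lit 3)⟩) (BT.leaf ⟨[(nat_lit 4), (nat_lit 2), (nat_lit 6), (nat_lit 4), (nat_lit 6)], (nat_lit 23), (nat_lit 0), (nat_lit 0), (nat_lit 3)⟩)) (BT.node (nat_lit 36) (BT.leaf ⟨[(nat_lit 4), (nat_lit 4), (nat_lit 4), (nat_lit 4)], (nat_lit 15), (nat_lit 0), (nat_lit 0), (nat_lit 3)⟩) (BT.node (nat_lit 37) (BT.leaf ⟨[(nat_lit 1), (nat_lit 3), (nat_lit 6), (nat_lit 3), (nat_lit 6)], (nat_lit 9), (nat_lit 3), (nat_lit 0), (nat_lit 3)⟩) (BT.leaf ⟨[(nat_lit 3), (nat_lit 6), (nat_lit 1), (nat_lit 3), (nat_lit 6)], (nat_lit 9), (nat_lit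 1), (nat_lit 0), (nat_lit 3)⟩)))))))
noncomputable def eMw_hcs : List CW := []
noncomputable def eMw_H (x j : Nat) : Bx (Nat → Nat → Nat) := mkH eMw_L eMw_pb.1 eMw_e.get (lmap CW.w eMw_hcs) (nat_lit 64) (nat_lit 65) (nat_lit 7) (nat_lit 128) (nat_lit 8192) (nat_lit 8191) x (eMw_rots.get j)
noncomputable def eMw_F (x b : Nat) : Bool := blkOK eMw_H eMw_ch (nat_lit 65) (nat_lit 128) (nat_lit 64) (nat_lit 8) (nat_lit 255) (nat_lit 17) (nat_lit 131071) x b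

theorem eMw_k0_0 : allFrom (eMw_F (nat_lit 0)) (nat_lit 0) (nat_lit 4) = true := by decide +kernel
theorem eMw_k1_0 : allFrom (eMw_F (nat_lit 1)) (nat_lit 0) (nat_lit 4) = true := by decide +kernel
theorem eMw_k2_0 : allFrom (eMw_F (nat_lit 2)) (nat_lit 0) (nat_lit 4) = true := by decide +kernel
theorem eMw_k3_0 : allFrom (eMw_F (nat_lit 3)) (nat_lit 0) (nat_lit 4) = true := by decide +kernel
theorem eMw_k4_0 : allFrom (eMw_F (nat_lit 4)) (nat_lit 0) (nat_lit 4) = true := by decide +kernel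
theorem eMw_k5_0 : allFrom (eMw_F (nat_lit 5)) (nat_lit 0) (nat_lit 4) = true := by decide +kernel
theorem eMw_k6_0 : allFrom (eMw_F (nat_lit 6)) (nat_lit 0) (nat_lit 4) = true := by decide +kernel

theorem eMw_all : Cov eMw_F 4 7 0 := by
  have h := Cov.zero eMw_F 4
  have h := h.blk (b := 4) eMw_k0_0 rfl
  have h := h.next (y := 1) rfl rfl
  have h := h.blk (b := 4) eMw_k1_0 rfl
  have h := h.next (y := 2) rfl rfl
  have h := h.blk (b := 4) eMw_k2_0 rfl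
  have h := h.next (y := 3) rfl rfl
  have h := h.blk (b := 4) eMw_k3_0 rfl
  have h := h.next (y := 4) rfl rfl
  have h := h.blk (b := 4) eMw_k4_0 rfl
  have h := h.next (y := 5) rfl rfl
  have h := h.blk (b := 4) eMw_k5_0 rfl
  have h := h.next (y := 6) rfl rfl
  have h := h.blk (b := 4) eMw_k6_0 rfl
  have h := h.next (y := 7) rfl rfl
  exact h

theorem eMw : Enum RMw [] (gensW 4) 64 :=
  ⟨eMw_cols, eMw_ch, eMw_L, eMw_H, eMw_pb.1, eMw_e.get, [(nat_lit 0), (nat_lit 1), (nat_lit 2), (nat_lit 3), (nat_lit 4), (nat_lit 5), (nat_lit 7)], (nat_lit 12), (nat_lit 4), eMw_rots, eMw_hcs,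
    (nat_lit 65), (nat_lit 7), (nat_lit 128), (nat_lit 64), (nat_lit 8192), (nat_lit 8191), (nat_lit 8), (nat_lit 255), (nat_lit 17), (nat_lit 131071), (nat_lit 1), (nat_lit 4),
    fun _ _ => rfl, fun _ => rfl, fun _ _ => rfl, by decide +kernel, eMw_all.1⟩

theorem pMw : TMw.Pres RMw (gensW 4) := ⟨CT.ok_spec TMw_ok, lall_iff.1 TMw_rel, by decide +kernel,
  by decide +kernel, by decide +kernel, eMw.bound (ug_rels _) (bound_nil _)⟩

instance instTMw : TMw.Grp := pMw.grp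

end CF.StA
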